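import Groth.Agent.Sga7.H77.MuSplit

/-!
# The pull-back of the universal cover `D ℚ ⟶ D ℤ` by the `g`-th power map

`decomp`: for `v : Y ⟶ D ℤ`, the pull-back of `D ℚ ⟶ D ℤ` along `v ≫ [g]` is a disjoint union of `g`
copies of its pull-back along `v`.
-/

set_option autoImplicit false
universe u

open CategoryTheory CategoryTheory.Limits AlgebraicGeometry TopologicalSpace

namespace Groth.Agent.Sga7.H77.Decomp

open Groth.Agent.Sga7.H763.Dia

open scoped Function in
/-- Base change of a disjoint union. -/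
theorem nonempty_iso_sigma {n : ℕ} {X Z W Y : Scheme.{u}} (s : Fin n → (X ⟶ Z))
    [IsIso (Sigma.desc s)] (p : Z ⟶ W) (v : Y ⟶ W) (q : X ⟶ W) (hq : ∀ i, s i ≫ p = q) :
    Nonempty (pullback v p ≅ ∐ fun _ : Fin n => pullback v q) := by
  have hι : ∀ i, s i = Sigma.ι (fun _ : Fin n => X) i ≫ Sigma.desc s := fun i => by simp
  have hs : ∀ i, IsOpenImmersion (s i) := fun i => by
    rw [hι i]
    infer_instance
  let j : ∀ i : Fin n, pullback v q ⟶ pullback v p := fun i =>
    pullback.lift (pullback.fst v q) (pullback.snd v q ≫ s i)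
      (by rw [Category.assoc, hq, pullback.condition])
  have hj1 : ∀ i, j i ≫ pullback.fst v p = pullback.fst v q := fun i => pullback.lift_fst _ _ _
  have hj2 : ∀ i, j i ≫ pullback.snd v p = pullback.snd v q ≫ s i := fun i =>
    pullback.lift_snd _ _ _
  have hsq : ∀ i, IsPullback (j i) (pullback.snd v q) (pullback.snd v p) (s i) := by
    intro i
    refine IsPullback.of_right (h₁₂ := pullback.fst v p) (h₂₂ := p) (v₁₃ := v) ?_ (hj2 i)
      (IsPullback.of_hasPullback v p)
    rw [hj1, hq]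
    exact IsPullback.of_hasPullback v q
  have hjo : ∀ i, IsOpenImmersion (j i) := fun i =>
    MorphismProperty.of_isPullback (P := @IsOpenImmersion) (hsq i).flip (hs i)
  have hr : ∀ i, (j i).opensRange = (pullback.snd v p) ⁻¹ᵁ (s i).opensRange := by
    intro i
    have h1 : j i = (hsq i).isoPullback.hom ≫ pullback.fst (pullback.snd v p) (s i) :=
      ((hsq i).isoPullback_hom_fst).symm
    have h2 := Scheme.Hom.opensRange_pullbackFst (s i) (pullback.snd v p)
    rw [← h2]
    ext x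
    simp only [Scheme.Hom.coe_opensRange]
    constructor
    · rintro ⟨y, rfl⟩
      exact ⟨(hsq i).isoPullback.hom y, by rw [← Scheme.Hom.comp_apply, ← h1]⟩
    · rintro ⟨y, rfl⟩
      refine ⟨(hsq i).isoPullback.inv y, ?_⟩
      rw [← Scheme.Hom.comp_apply, (hsq i).isoPullback_inv_fst]
  have hsc : ∀ z : Z, ∃ i, z ∈ (s i).opensRange := by
    intro z
    obtain ⟨y, rfl⟩ := (Sigma.desc s).surjective z
    obtain ⟨i, x, hx⟩ := (sigmaOpenCover (fun _ : Fin n => X)).exists_eq y
    refine ⟨i, x, ?_⟩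
    rw [hι i, Scheme.Hom.comp_apply]
    exact congrArg (Sigma.desc s) hx
  have hcov : ⨆ i, (j i).opensRange = ⊤ := by
    rw [eq_top_iff]
    intro x _
    obtain ⟨i, hi⟩ := hsc (pullback.snd v p x)
    rw [Opens.mem_iSup]
    exact ⟨i, by rw [hr]; exact hi⟩
  have hd : Pairwise (Disjoint on (j · |>.opensRange)) := by
    intro a b hab
    change Disjoint (j a).opensRange (j b).opensRange
    rw [hr, hr, disjoint_iff, eq_bot_iff]
    rintro x ⟨h1, h2⟩
    obtain ⟨y1, hy1⟩ := h1
    obtain ⟨y2, hy2⟩ := h2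
    have h3 : s a y1 = s b y2 := hy1.trans hy2.symm
    rw [hι a, hι b, Scheme.Hom.comp_apply, Scheme.Hom.comp_apply] at h3
    have h4 := (Sigma.desc s).isOpenEmbedding.injective h3
    have h5 := (sigmaι_eq_iff (fun _ : Fin n => X) a b y1 y2).1 h4
    exact absurd (congrArg Sigma.fst h5) hab
  obtain ⟨h⟩ := nonempty_isColimit_cofanMk_of j hcov hd
  exact ⟨(h.coconePointUniqueUpToIso (coproductIsCoproduct _))⟩

instance isIso_desc_pi (n : ℕ) (A : CommRingCat.{u}) :
    IsIso (Sigma.desc (fun i : Fin n =>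
      Spec.map (CommRingCat.ofHom (Pi.evalRingHom (fun _ : Fin n => A) i)))) := by
  let e : ULift.{u} (Fin n) ≃ Fin n := Equiv.ulift
  let ρ : (Fin n → A) ≃+* (ULift.{u} (Fin n) → A) := RingEquiv.piCongrLeft' (fun _ => A) e.symm
  have h : Sigma.desc (fun i : Fin n =>
      Spec.map (CommRingCat.ofHom (Pi.evalRingHom (fun _ : Fin n => A) i))) =
      (Sigma.reindex e (fun _ : Fin n => Spec A)).inv ≫ sigmaSpec (fun _ : ULift.{u} (Fin n) => A) ≫
        Spec.map ρ.toCommRingCatIso.hom := by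
    refine Sigma.hom_ext _ _ fun i => ?_
    obtain ⟨i, rfl⟩ := e.surjective i
    rw [Sigma.ι_desc]
    have h1 := Sigma.ι_reindex_inv_assoc e (fun _ : Fin n => Spec A) i
      (sigmaSpec (fun _ : ULift.{u} (Fin n) => A) ≫ Spec.map ρ.toCommRingCatIso.hom)
    refine Eq.trans ?_ h1.symm
    have h2 := ι_sigmaSpec_assoc (fun _ : ULift.{u} (Fin n) => A) i
      (Spec.map ρ.toCommRingCatIso.hom)
    refine Eq.trans ?_ h2.symm
    rw [← Spec.map_comp]
    rfl
  rw [h]
  infer_instance

variable (k : Type u) [Field k]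

/-- The pull-back of the universal cover of `D ℤ` along the `g`-th power map is a disjoint union of `g`
copies. -/
theorem decomp [IsAlgClosed k] [CharZero k] (g : ℕ) (hg : 0 < g)
    {Y : Scheme.{u}} (v : Y ⟶ D k ℤ) :
    Nonempty (pullback (v ≫ Dm k (AddMonoidHom.mulLeft (g : ℤ))) (Dm k (Int.castAddHom ℚ)) ≅
      ∐ fun _ : Fin g => pullback v (Dm k (Int.castAddHom ℚ))) := by
  have hgk : (g : k) ≠ 0 := by exact_mod_cast hg.ne'
  have : NeZero (g : k) := ⟨hgk⟩
  obtain ⟨ζ₀, hζ₀⟩ := HasEnoughRootsOfUnity.exists_primitiveRoot k g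
  let ζ : kˣ := (hζ₀.isUnit hg.ne').unit
  have hζ : IsPrimitiveRoot (ζ : k) g := hζ₀
  obtain ⟨χ, hχ⟩ := MuSplit.exists_character k g hg ζ
  have hpo := MuSplit.isPushout_mul hgk hζ hχ
  have hpb := isPullback_SpecMap_of_isPushout _ _ _ _ hpo
  obtain ⟨e⟩ := nonempty_iso_sigma (n := g) (fun i : Fin g =>
      Spec.map (CommRingCat.ofHom (Pi.evalRingHom
        (fun _ : Fin g => CommRingCat.of (AddMonoidAlgebra k ℚ)) i)))
    (Spec.map (CommRingCat.ofHom (MuSplit.inl k g))) v (Dm k (Int.castAddHom ℚ))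
    (fun i => by
      rw [← Spec.map_comp]
      rfl)
  exact ⟨((IsPullback.of_hasPullback v (Spec.map (CommRingCat.ofHom (MuSplit.inl k g)))).paste_vert
    hpb).isoPullback.symm ≪≫ e⟩

end Groth.Agent.Sga7.H77.Decomp
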