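import Groth.Agent.CurvesA.AcycEtale
import Groth.Agent.Etrest.HConstIso
import Groth.Agent.Etrest.IsoInv

/-!
# Cohomology and connected components of a finite disjoint union of copies of a scheme

* `extEquivPi`: `Ext^q(ℤ_U, F) = ∏ Ext^q(ℤ_{V i}, F)` if `U` is the disjoint union of the `V i`.
* `nonempty_H_pi`: `H^q(T, M) = ∏ H^q(V i, M)` for constant coefficients.
* `H_sigma`, `card_sigma`: disjoint unions of `g` copies of `Y`.
-/

set_option autoImplicit false
universe w u

open CategoryTheory CategoryTheory.Limits CategoryTheory.Abelian AlgebraicGeometry Opposite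

namespace Groth.Agent.Sga7.H77.HSigma

open Groth.Agent.CurvesA Groth.Agent.CurvesA.SiteZU Groth.Agent.CurvesA.AcycLocal
  Groth.Agent.CurvesA.AcycEtale Groth.Agent.CurvesA.PushAcyclic

section Ext

variable {𝒜 : Type*} [Category* 𝒜] [Abelian 𝒜] [HasExt.{w} 𝒜]

/-- `Ext` out of a finite coproduct. -/
theorem nonempty_extPi {n : ℕ} {A : 𝒜} {B : Fin n → 𝒜} (b : ∀ i, B i ⟶ A)
    (hb : ∀ F : 𝒜, Function.Bijective (fun (φ : A ⟶ F) (i : Fin n) => b i ≫ φ)) (F : 𝒜) (q : ℕ) :
    Nonempty (Ext A F q ≃+ ∀ i, Ext (B i) F q) := by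
  have : HasFiniteBiproducts 𝒜 := Abelian.hasFiniteBiproducts
  have h : IsIso (biproduct.desc b) := by
    apply isIso_of_coyoneda_map_bijective
    intro G
    constructor
    · intro x y hxy
      apply (hb G).1
      funext i
      have h0 := congrArg (fun φ => biproduct.ι B i ≫ φ) hxy
      simpa only [biproduct.ι_desc_assoc] using h0
    · intro x
      obtain ⟨φ, hφ⟩ := (hb G).2 fun i => biproduct.ι B i ≫ x
      refine ⟨φ, biproduct.hom_ext' _ _ fun i => ?_⟩
      change biproduct.ι _ i ≫ biproduct.desc b ≫ φ = _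
      rw [biproduct.ι_desc_assoc]
      exact congrFun hφ i
  exact ⟨(ExtStep.precompIso (asIso (biproduct.desc b)) F q).trans
    (Ext.biproductAddEquiv (biproduct.isBilimit B) F q)⟩

end Ext

section Abstract

variable {X : Scheme.{u}} {n : ℕ} {U : X.Etale} (V : Fin n → X.Etale) (f : ∀ i, V i ⟶ U)
  (hf : ∀ i, Mono (f i).left)
  (hd : ∀ i j, ∀ x : (V i).left, ∀ y : (V j).left, (f i).left x = (f j).left y → i = j)
  (hs : ∀ x : U.left, ∃ (i : Fin n) (y : (V i).left), (f i).left y = x)

include hf hd hs in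
theorem bijective_Z (F : EtCoh.Ab X) :
    Function.Bijective (fun (φ : (Z X).obj U ⟶ F) (i : Fin n) => (Z X).map (f i) ≫ φ) := by
  have h := bijective_sections_of_disjoint V f hf hd hs F
  constructor
  · intro a b hab
    apply (evEquiv.{u + 1} U F).injective
    apply h.1
    funext i
    have h1 : (Z X).map (f i) ≫ a = (Z X).map (f i) ≫ b := congrFun hab i
    have h2 := congrArg ev.{u + 1} h1
    rw [ev_map_comp, ev_map_comp] at h2
    exact h2
  · intro x
    obtain ⟨s, hs⟩ := h.2 fun i => ev.{u + 1} (x i)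
    refine ⟨lift.{u + 1} s, funext fun i => ?_⟩
    apply ev_injective.{u + 1}
    refine (ev_map_comp.{u + 1} (f i) (lift.{u + 1} s)).trans ?_
    rw [ev_lift]
    exact congrFun hs i

include hf hd hs in
/-- `Ext` out of a disjoint union. -/
theorem nonempty_extEquivPi (F : EtCoh.Ab X) (q : ℕ) :
    Nonempty (Ext ((Z X).obj U) F q ≃+ ∀ i, Ext ((Z X).obj (V i)) F q) :=
  nonempty_extPi (fun i => (Z X).map (f i)) (bijective_Z V f hf hd hs) F q

/-- `Ext^q(ℤ_V, M) = H^q(V, M)`. -/
noncomputable def extEquivHConst (V : X.Etale) (M : Type) [AddCommGroup M] (q : ℕ) :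
    Ext ((Z X).obj V) (EtCoh.const X M) q ≃+ EtCoh.H V.left (EtCoh.const V.left M) q :=
  (extEquivH V (EtCoh.const X M) q).trans
    (Etrest.IsoInv.HCongr (Sga4h.EtaleRes2.constRestr V.hom M) q)

include hf hd hs in
/-- `H^q(T, M) = ∏ H^q(V i, M)`. -/
theorem nonempty_H_pi (hU : IsTerminal U) (M : Type) [AddCommGroup M] (q : ℕ) :
    Nonempty (EtCoh.H X (EtCoh.const X M) q ≃+
      ∀ i, EtCoh.H (V i).left (EtCoh.const (V i).left M) q) := by
  obtain ⟨e⟩ := nonempty_extEquivPi V f hf hd hs (EtCoh.const X M) q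
  exact ⟨(HEquiv.{u + 1, u + 1} (J := X.smallEtaleTopology) hU (EtCoh.const X M) q).trans
    (e.trans (AddEquiv.piCongrRight fun i => extEquivHConst (V i) M q))⟩

end Abstract

/-- Cohomology of a disjoint union. -/
theorem nonempty_H_sigma {g : ℕ} (Y : Fin g → Scheme.{u}) (M : Type) [AddCommGroup M] (q : ℕ) :
    Nonempty (EtCoh.H (∐ Y) (EtCoh.const (∐ Y) M) q ≃+
      ∀ i, EtCoh.H (Y i) (EtCoh.const (Y i) M) q) := by
  let V : Fin g → (∐ Y).Etale := fun i => Scheme.Etale.mk (Sigma.ι Y i)
  let f : ∀ i, V i ⟶ EtCoh.top (∐ Y) := fun i =>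
    (Etbase.ExactSections.topIsTerminal (∐ Y)).from (V i)
  have hfl : ∀ i, (f i).left = Sigma.ι Y i := fun i => by
    have h := MorphismProperty.Over.w (f i)
    exact (Category.comp_id _).symm.trans h
  refine nonempty_H_pi V f ?_ ?_ ?_ (Etbase.ExactSections.topIsTerminal (∐ Y)) M q
  · intro i
    rw [hfl]
    exact (inferInstance : Mono (Sigma.ι Y i))
  · intro i j x y h
    rw [hfl, hfl] at h
    exact congrArg Sigma.fst ((sigmaι_eq_iff Y i j x y).1 h)
  · intro x
    obtain ⟨i, y, hy⟩ := (sigmaOpenCover Y).exists_eq x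
    refine ⟨i, y, ?_⟩
    rw [hfl]
    exact hy

theorem H_sigma {g : ℕ} (n q : ℕ) {Y Y' : Scheme.{u}} (e : Y' ≅ ∐ fun _ : Fin g => Y) :
    Nonempty (EtCoh.H Y' (EtCoh.const Y' (ZMod n)) q ≃+
      (Fin g → EtCoh.H Y (EtCoh.const Y (ZMod n)) q)) := by
  obtain ⟨e1⟩ := Etrest.HConstIso.nonempty_HConst e (ZMod n) q
  obtain ⟨e2⟩ := nonempty_H_sigma (fun _ : Fin g => Y) (ZMod n) q
  exact ⟨e1.symm.trans e2⟩

/-- Connected components from a locally constant map with preconnected fibres. -/
theorem bijective_lift {A B : Type*} [TopologicalSpace A] [TopologicalSpace B] [DiscreteTopology B]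
    (c : A → B) (hc : Continuous c) (hsurj : Function.Surjective c)
    (hfib : ∀ b, IsPreconnected (c ⁻¹' {b})) : Function.Bijective hc.connectedComponentsLift := by
  constructor
  · intro x y h
    obtain ⟨x, rfl⟩ := ConnectedComponents.surjective_coe x
    obtain ⟨y, rfl⟩ := ConnectedComponents.surjective_coe y
    rw [Continuous.connectedComponentsLift_apply_coe, Continuous.connectedComponentsLift_apply_coe] at h
    rw [ConnectedComponents.coe_eq_coe]
    refine (connectedComponent_eq ?_)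
    exact (hfib (c x)).subset_connectedComponent rfl h.symm
  · intro b
    obtain ⟨a, rfl⟩ := hsurj b
    exact ⟨a, rfl⟩

theorem card_connectedComponents_sigma {g : ℕ} (Y : Fin g → Scheme.{u})
    (hY : ∀ i, ConnectedSpace (Y i)) : Nat.card (ConnectedComponents (∐ Y : Scheme.{u})) = g := by
  have h1 : ∀ x : (∐ Y : Scheme.{u}), ∃ (i : Fin g) (y : Y i), Sigma.ι Y i y = x := fun x =>
    (sigmaOpenCover Y).exists_eq x
  choose c z hz using h1
  have h2 : ∀ i (y : Y i), c (Sigma.ι Y i y) = i := by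
    intro i y
    exact congrArg Sigma.fst ((sigmaι_eq_iff Y _ _ _ _).1 (hz (Sigma.ι Y i y)))
  have h3 : ∀ i, c ⁻¹' {i} = Set.range (Sigma.ι Y i) := by
    intro i
    ext x
    constructor
    · intro hx
      have hx' : c x = i := hx
      subst hx'
      exact ⟨_, hz x⟩
    · rintro ⟨y, rfl⟩
      exact h2 i y
  have hc : Continuous c := by
    rw [continuous_discrete_rng]
    intro i
    rw [h3]
    exact (Sigma.ι Y i).opensRange.2
  have hb := bijective_lift c hc (fun i => ⟨Sigma.ι Y i (hY i).toNonempty.some, h2 i _⟩) (fun i => by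
    rw [h3]
    have := hY i
    exact isPreconnected_range (Sigma.ι Y i).continuous)
  rw [Nat.card_congr (Equiv.ofBijective _ hb), Nat.card_fin]

theorem card_sigma {g : ℕ} {Y Y' : Scheme.{u}} [ConnectedSpace Y]
    (e : Y' ≅ ∐ fun _ : Fin g => Y) : Nat.card (ConnectedComponents Y') = g := by
  rw [← card_connectedComponents_sigma (fun _ : Fin g => Y) (fun _ => inferInstance)]
  let h := Scheme.homeoOfIso e
  refine Nat.card_congr ⟨h.continuous.connectedComponentsMap,
    h.symm.continuous.connectedComponentsMap, fun x => ?_, fun x => ?_⟩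
  · obtain ⟨x, rfl⟩ := ConnectedComponents.surjective_coe x
    exact congrArg ConnectedComponents.mk (h.symm_apply_apply x)
  · obtain ⟨x, rfl⟩ := ConnectedComponents.surjective_coe x
    exact congrArg ConnectedComponents.mk (h.apply_symm_apply x)

end Groth.Agent.Sga7.H77.HSigma
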