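import Groth.Agent.Sga7.H763.Dia
import Mathlib.Algebra.Category.Grp.Injective
import Mathlib.FieldTheory.IsAlgClosed.Basic
import Mathlib.RingTheory.RootsOfUnity.AlgebraicallyClosed
import Mathlib.Algebra.Ring.GeomSum

/-!
# The pushout `k[ℤ] ⊗_{k[ℤ], g} k[ℚ]` is a product of `g` copies of `k[ℚ]`

`k` algebraically closed of characteristic `0`, `g ≥ 1`.
* `exists_character`: a character `χ : ℚ → kˣ` with `χ (1 / g) = ζ`.
* `isPushout_mul`: the pushout square.
-/

set_option autoImplicit false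
universe u v

open CategoryTheory CategoryTheory.Limits AlgebraicGeometry

namespace Groth.Agent.Sga7.H77.MuSplit

open Groth.Agent.Sga7.H763.Dia

section Char

variable (k : Type u) [Field k]

/-- `kˣ` is divisible. -/
@[instance_reducible] noncomputable def divisible [IsAlgClosed k] : DivisibleBy (Additive kˣ) ℤ :=
  divisibleByOfSMulRightSurj _ _ (fun {n} hn => by
    intro x
    obtain ⟨z, hz⟩ : ∃ z : k, z ^ n.natAbs = (x.toMul : k) :=
      IsAlgClosed.exists_pow_nat_eq _ (Int.natAbs_pos.2 hn)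
    have hz0 : z ≠ 0 := by
      rintro rfl
      rw [zero_pow (Int.natAbs_ne_zero.2 hn)] at hz
      exact x.toMul.ne_zero hz.symm
    have h1 : (Units.mk0 z hz0) ^ n.natAbs = x.toMul := by
      ext
      simpa using hz
    rcases Int.natAbs_eq n with h | h
    · refine ⟨Additive.ofMul (Units.mk0 z hz0), ?_⟩
      apply Additive.toMul.injective
      change (Units.mk0 z hz0) ^ n = x.toMul
      rw [h, zpow_natCast, h1]
    · refine ⟨Additive.ofMul (Units.mk0 z hz0)⁻¹, ?_⟩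
      apply Additive.toMul.injective
      change ((Units.mk0 z hz0)⁻¹) ^ n = x.toMul
      rw [h, zpow_neg, zpow_natCast, inv_pow, inv_inv, h1])

/-- Characters of `ℚ` with values in an algebraically closed field. -/
theorem exists_character [IsAlgClosed k] (g : ℕ) (hg : 0 < g) (ζ : kˣ) :
    ∃ χ : ℚ →+ Additive kˣ, χ (1 / g) = Additive.ofMul ζ := by
  let := divisible k
  have hb : Module.Baer ℤ (Additive kˣ) := Module.Baer.of_divisible _
  have hinj : Function.Injective (zmultiplesHom ℚ ((1 : ℚ) / g)) := by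
    intro a b h
    simp only [zmultiplesHom_apply, zsmul_eq_mul] at h
    have hg' : ((1 : ℚ) / g) ≠ 0 := by positivity
    exact_mod_cast mul_right_cancel₀ hg' h
  obtain ⟨χ, hχ⟩ := hb.extension_property_addMonoidHom (zmultiplesHom ℚ ((1 : ℚ) / g)) hinj
    (zmultiplesHom (Additive kˣ) (Additive.ofMul ζ))
  refine ⟨χ, ?_⟩
  have := DFunLike.congr_fun hχ 1
  simpa using this

end Char

section Idem

variable {k : Type u} [Field k] (g : ℕ) (ζ : k) {S : Type v} [CommRing S] {S' : Type*} [CommRing S']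

/-- The idempotents attached to an element `w` with `w ^ g = 1`. -/
noncomputable def E (c : k →+* S) (w : S) (i : ℕ) : S :=
  c (g : k)⁻¹ * ∑ j ∈ Finset.range g, (c (ζ ^ i) * w) ^ j

theorem map_E (c : k →+* S) (w : S) (i : ℕ) (m : S →+* S') :
    m (E g ζ c w i) = E g ζ (m.comp c) (m w) i := by
  simp [E, map_sum]

variable {g ζ}

theorem sum_pow_eq_zero {z : k} (h1 : z ^ g = 1) (h2 : z ≠ 1) : ∑ j ∈ Finset.range g, z ^ j = 0 := by
  have h := mul_geom_sum z g
  rw [h1, sub_self] at h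
  exact (mul_eq_zero.1 h).resolve_left (sub_ne_zero.2 h2)

variable (hζ : IsPrimitiveRoot ζ g)
include hζ

theorem mul_E (c : k →+* S) {w : S} (hw : w ^ g = 1) (i : ℕ) :
    c (ζ ^ i) * w * E g ζ c w i = E g ζ c w i := by
  have h1 : (c (ζ ^ i) * w) ^ g = 1 := by
    rw [mul_pow, hw, mul_one, ← map_pow, ← pow_mul, mul_comm i g, pow_mul, hζ.pow_eq_one, one_pow,
      map_one]
  have h := mul_geom_sum (c (ζ ^ i) * w) g
  rw [h1, sub_self, sub_mul, one_mul, sub_eq_zero] at h
  rw [E, mul_left_comm, h]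

theorem E_mul_E (hg : (g : k) ≠ 0) (c : k →+* S) {w : S} (hw : w ^ g = 1) {i l : ℕ} (hi : i < g)
    (hl : l < g) : E g ζ c w l * E g ζ c w i = if l = i then E g ζ c w i else 0 := by
  have hζ0 : ζ ≠ 0 := by
    rintro rfl
    have := hζ.pow_eq_one
    rw [zero_pow (by omega)] at this
    exact zero_ne_one this
  have key : ∀ j, (c (ζ ^ l) * w) ^ j * E g ζ c w i = c ((ζ ^ l * (ζ ^ i)⁻¹) ^ j) * E g ζ c w i := by
    intro j
    have h1 : c (ζ ^ l) * w * E g ζ c w i = c (ζ ^ l * (ζ ^ i)⁻¹) * E g ζ c w i := by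
      conv_rhs => rw [← mul_E hζ c hw i]
      rw [map_mul, ← mul_assoc, ← mul_assoc, mul_assoc (c (ζ ^ l)) (c (ζ ^ i)⁻¹), ← map_mul,
        inv_mul_cancel₀ (pow_ne_zero _ hζ0), map_one, mul_one]
    induction j with
    | zero => simp
    | succ j ih =>
      rw [pow_succ, mul_assoc, h1, mul_left_comm, ih, ← mul_assoc, ← map_mul, ← pow_succ']
  rw [E, mul_assoc, Finset.sum_mul, Finset.sum_congr rfl (fun j _ => key j), ← Finset.sum_mul,
    ← map_sum, ← mul_assoc, ← map_mul]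
  split_ifs with h
  · subst h
    rw [mul_inv_cancel₀ (pow_ne_zero _ hζ0)]
    simp [inv_mul_cancel₀ hg]
  · rw [sum_pow_eq_zero, mul_zero, map_zero, zero_mul]
    · rw [mul_pow, inv_pow, ← pow_mul, ← pow_mul, mul_comm l, mul_comm i, pow_mul, pow_mul,
        hζ.pow_eq_one, one_pow, one_pow, inv_one, mul_one]
    · intro h'
      apply h
      rw [mul_inv_eq_one₀ (pow_ne_zero _ hζ0)] at h'
      exact hζ.pow_inj hl hi h'

theorem sum_E (hg : (g : k) ≠ 0) (c : k →+* S) (w : S) :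
    ∑ i ∈ Finset.range g, E g ζ c w i = 1 := by
  have hg0 : 0 < g := Nat.pos_of_ne_zero (by rintro rfl; simp at hg)
  simp only [E]
  rw [← Finset.mul_sum, Finset.sum_comm]
  have key : ∀ j ∈ Finset.range g, ∑ i ∈ Finset.range g, (c (ζ ^ i) * w) ^ j =
      if j = 0 then c g else 0 := by
    intro j hj
    have h1 : ∀ i, (c (ζ ^ i) * w) ^ j = c ((ζ ^ j) ^ i) * w ^ j := by
      intro i
      rw [mul_pow, ← map_pow, ← pow_mul, ← pow_mul, mul_comm i j]
    rw [Finset.sum_congr rfl (fun i _ => h1 i), ← Finset.sum_mul, ← map_sum]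
    split_ifs with h
    · subst h
      simp
    · rw [sum_pow_eq_zero, map_zero, zero_mul]
      · rw [← pow_mul, mul_comm, pow_mul, hζ.pow_eq_one, one_pow]
      · intro h'
        exact h (Nat.eq_zero_of_dvd_of_lt (hζ.dvd_of_pow_eq_one j h') (Finset.mem_range.1 hj))
  rw [Finset.sum_congr rfl key, Finset.sum_ite_eq' (Finset.range g) 0]
  rw [if_pos (Finset.mem_range.2 hg0), ← map_mul, inv_mul_cancel₀ hg, map_one]

end Idem

section Twist

variable (k : Type u) [Field k]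

/-- The endomorphism `X^γ ↦ χ(γ) X^{f γ}` of `k[ℚ]`. -/
noncomputable def tw (χ : ℚ →+ Additive kˣ) (f : ℚ →+ ℚ) :
    AddMonoidAlgebra k ℚ →+* AddMonoidAlgebra k ℚ :=
  mk k (algebraMap k (AddMonoidAlgebra k ℚ))
    { toFun := fun γ => AddMonoidAlgebra.single (f γ.toAdd) ((χ γ.toAdd).toMul : k)
      map_one' := by
        simp only [toAdd_one, map_zero, toMul_zero, Units.val_one]
        rfl
      map_mul' := fun γ γ' => by
        rw [AddMonoidAlgebra.single_mul_single, toAdd_mul, map_add, map_add, toMul_add,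
          Units.val_mul] }

@[simp] theorem tw_single (χ : ℚ →+ Additive kˣ) (f : ℚ →+ ℚ) (γ : ℚ) (r : k) :
    tw k χ f (AddMonoidAlgebra.single γ r) =
      AddMonoidAlgebra.single (f γ) (r * ((χ γ).toMul : k)) := by
  rw [tw, mk_single]
  change AddMonoidAlgebra.single 0 r * AddMonoidAlgebra.single (f γ) ((χ γ).toMul : k) = _
  rw [AddMonoidAlgebra.single_mul_single, zero_add]

theorem tw_const (χ : ℚ →+ Additive kˣ) (f : ℚ →+ ℚ) (r : k) :
    tw k χ f (algebraMap k _ r) = algebraMap k _ r := by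
  change tw k χ f (AddMonoidAlgebra.single 0 r) = AddMonoidAlgebra.single 0 r
  simp

variable (g : ℕ) (χ : ℚ →+ Additive kˣ)

/-- `X^γ ↦ χ(γ)^i X^{g γ}`. -/
noncomputable def bb (i : ℕ) : AddMonoidAlgebra k ℚ →+* AddMonoidAlgebra k ℚ :=
  tw k (i • χ) (AddMonoidHom.mulLeft (g : ℚ))

/-- the inverse of `bb`. -/
noncomputable def ss (i : ℕ) : AddMonoidAlgebra k ℚ →+* AddMonoidAlgebra k ℚ :=
  tw k (-((i • χ).comp (AddMonoidHom.mulLeft ((g : ℚ)⁻¹)))) (AddMonoidHom.mulLeft ((g : ℚ)⁻¹))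

theorem bb_single (i : ℕ) (γ : ℚ) (r : k) : bb k g χ i (AddMonoidAlgebra.single γ r) =
    AddMonoidAlgebra.single (g * γ) (r * ((χ γ).toMul : k) ^ i) := by
  rw [bb, tw_single]
  rfl

theorem ss_single (i : ℕ) (γ : ℚ) (r : k) : ss k g χ i (AddMonoidAlgebra.single γ r) =
    AddMonoidAlgebra.single ((g : ℚ)⁻¹ * γ) (r * (((χ ((g : ℚ)⁻¹ * γ)).toMul : k) ^ i)⁻¹) := by
  rw [ss, tw_single]
  congr 2
  simp

theorem bb_ss (hg : 0 < g) (i : ℕ) (p : AddMonoidAlgebra k ℚ) : bb k g χ i (ss k g χ i p) = p := by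
  have hg' : (g : ℚ) ≠ 0 := by positivity
  have : (bb k g χ i).comp (ss k g χ i) = RingHom.id _ := by
    apply hom_ext'
    · intro r
      rw [RingHom.comp_apply, ss_single, bb_single]
      simp
    · intro m
      rw [RingHom.comp_apply, ss_single, bb_single, ← mul_assoc, mul_inv_cancel₀ hg', one_mul,
        one_mul, inv_mul_cancel₀ (pow_ne_zero _ (Units.ne_zero _))]
      rfl
  exact RingHom.congr_fun this p

theorem ss_bb (hg : 0 < g) (i : ℕ) (p : AddMonoidAlgebra k ℚ) : ss k g χ i (bb k g χ i p) = p := by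
  have hg' : (g : ℚ) ≠ 0 := by positivity
  have : (ss k g χ i).comp (bb k g χ i) = RingHom.id _ := by
    apply hom_ext'
    · intro r
      rw [RingHom.comp_apply, bb_single, ss_single]
      simp
    · intro m
      rw [RingHom.comp_apply, bb_single, ss_single, ← mul_assoc, inv_mul_cancel₀ hg', one_mul,
        one_mul, mul_inv_cancel₀ (pow_ne_zero _ (Units.ne_zero _))]
      rfl
  exact RingHom.congr_fun this p

/-- `k[ℤ] → ∏ k[ℚ]`. -/
noncomputable def inl : AddMonoidAlgebra k ℤ →+* (Fin g → AddMonoidAlgebra k ℚ) :=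
  RingHom.pi fun _ => rm k (Int.castAddHom ℚ)

/-- `k[ℚ] → ∏ k[ℚ]`. -/
noncomputable def inr : AddMonoidAlgebra k ℚ →+* (Fin g → AddMonoidAlgebra k ℚ) :=
  RingHom.pi fun i => bb k g χ i

theorem inl_apply (p : AddMonoidAlgebra k ℤ) (i : Fin g) :
    inl k g p i = rm k (Int.castAddHom ℚ) p := rfl

theorem inr_apply (p : AddMonoidAlgebra k ℚ) (i : Fin g) : inr k g χ p i = bb k g χ i p := rfl

variable {g χ}

theorem comm_sq {ζ : kˣ} (hg : 0 < g) (hζ : ζ ^ g = 1) (hχ : χ (1 / g) = Additive.ofMul ζ) :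
    (inl k g).comp (rm k (AddMonoidHom.mulLeft (g : ℤ))) =
      (inr k g χ).comp (rm k (Int.castAddHom ℚ)) := by
  have hg' : (g : ℚ) ≠ 0 := by positivity
  have h1 : χ 1 = 0 := by
    have : (1 : ℚ) = g • (1 / g : ℚ) := by
      rw [nsmul_eq_mul]
      field_simp
    rw [this, map_nsmul, hχ, ← ofMul_pow, hζ]
    rfl
  have h2 : ∀ n : ℤ, χ n = 0 := by
    intro n
    have : (n : ℚ) = n • (1 : ℚ) := by simp
    rw [this, map_zsmul, h1, smul_zero]
  have key : ∀ (i : Fin g) (m : ℤ) (r : k),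
      (inl k g) (rm k (AddMonoidHom.mulLeft (g : ℤ)) (AddMonoidAlgebra.single m r)) i =
        (inr k g χ) (rm k (Int.castAddHom ℚ) (AddMonoidAlgebra.single m r)) i := by
    intro i m r
    rw [rm_single, rm_single, inl_apply, inr_apply, rm_single, bb_single]
    have e1 : (Int.castAddHom ℚ) ((AddMonoidHom.mulLeft (g : ℤ)) m) =
        (g : ℚ) * (Int.castAddHom ℚ) m := by
      simp
    rw [e1]
    have e2 : χ ((Int.castAddHom ℚ) m) = 0 := h2 m
    rw [e2, toMul_zero, Units.val_one, one_pow, mul_one]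
  apply hom_ext'
  · intro r
    funext i
    exact key i 0 r
  · intro m
    funext i
    exact key i m 1

end Twist

section Pushout

variable {k : Type u} [Field k] {g : ℕ} {χ : ℚ →+ Additive kˣ} {ζ : kˣ}

/-- The map out of the product. -/
noncomputable def dsc (hg : (g : k) ≠ 0) (hζ : IsPrimitiveRoot (ζ : k) g) (χ : ℚ →+ Additive kˣ)
    {S : Type v} [CommRing S] (b : AddMonoidAlgebra k ℚ →+* S) (w : S) (hw : w ^ g = 1) :
    (Fin g → AddMonoidAlgebra k ℚ) →+* S where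
  toFun p := ∑ i : Fin g, E g (ζ : k) (cst b) w i * b (ss k g χ i (p i))
  map_zero' := by simp
  map_one' := by
    simp only [Pi.one_apply, map_one, mul_one]
    rw [Fin.sum_univ_eq_sum_range (fun i => E g (ζ : k) (cst b) w i) g]
    exact sum_E hζ hg _ _
  map_add' p q := by
    simp only [Pi.add_apply, map_add, mul_add, Finset.sum_add_distrib]
  map_mul' p q := by
    rw [Finset.sum_mul_sum]
    refine Finset.sum_congr rfl fun i _ => ?_
    rw [Finset.sum_eq_single i]
    · rw [Pi.mul_apply, map_mul, map_mul]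
      have h := E_mul_E hζ hg (cst b) hw i.2 i.2
      rw [if_pos rfl] at h
      rw [mul_mul_mul_comm, h]
    · intro j _ hj
      have h := E_mul_E hζ hg (cst b) hw j.2 i.2
      rw [if_neg (fun h' => hj (Fin.ext h'.symm))] at h
      rw [mul_mul_mul_comm, h, zero_mul]
    · intro h
      exact absurd (Finset.mem_univ i) h

theorem dsc_apply (hg : (g : k) ≠ 0) (hζ : IsPrimitiveRoot (ζ : k) g)
    {S : Type v} [CommRing S] (b : AddMonoidAlgebra k ℚ →+* S) (w : S) (hw : w ^ g = 1)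
    (p : Fin g → AddMonoidAlgebra k ℚ) :
    dsc hg hζ χ b w hw p = ∑ i : Fin g, E g (ζ : k) (cst b) w i * b (ss k g χ i (p i)) := rfl

theorem ss_one (hχ : χ (1 / g) = Additive.ofMul ζ) (i : ℕ) :
    ss k g χ i (AddMonoidAlgebra.single 1 1) =
      AddMonoidAlgebra.single ((g : ℚ)⁻¹) (((ζ : k) ^ i)⁻¹) := by
  rw [ss_single, mul_one, one_mul]
  have : χ ((g : ℚ)⁻¹) = Additive.ofMul ζ := by
    rw [← hχ, one_div]
  rw [this]
  rfl

theorem pow_eq_one (hg : 0 < g) {S : Type v} [CommRing S] (a : AddMonoidAlgebra k ℤ →+* S)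
    (b : AddMonoidAlgebra k ℚ →+* S)
    (hab : a.comp (rm k (AddMonoidHom.mulLeft (g : ℤ))) = b.comp (rm k (Int.castAddHom ℚ))) :
    (a (AddMonoidAlgebra.single 1 1) * b (AddMonoidAlgebra.single (-(g : ℚ)⁻¹) 1)) ^ g = 1 := by
  have hgQ : (g : ℚ) ≠ 0 := by positivity
  rw [mul_pow, ← map_pow, ← map_pow, AddMonoidAlgebra.single_pow, AddMonoidAlgebra.single_pow,
    one_pow]
  have h1 := RingHom.congr_fun hab (AddMonoidAlgebra.single 1 1)
  rw [RingHom.comp_apply, RingHom.comp_apply, rm_single, rm_single] at h1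
  have e1 : (AddMonoidHom.mulLeft (g : ℤ)) 1 = g • (1 : ℤ) := by simp
  have e2 : (Int.castAddHom ℚ) 1 = 1 := by simp
  rw [e1, e2] at h1
  rw [h1, ← map_mul, AddMonoidAlgebra.single_mul_single]
  have e3 : (1 : ℚ) + g • (-(g : ℚ)⁻¹) = 0 := by
    rw [nsmul_eq_mul]
    field_simp
    ring
  rw [e3, mul_one]
  exact map_one b

theorem dsc_inr (hg : (g : k) ≠ 0) (hζ : IsPrimitiveRoot (ζ : k) g)
    {S : Type v} [CommRing S] (b : AddMonoidAlgebra k ℚ →+* S) (w : S) (hw : w ^ g = 1) :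
    (dsc hg hζ χ b w hw).comp (inr k g χ) = b := by
  have hg0 : 0 < g := Nat.pos_of_ne_zero (by rintro rfl; simp at hg)
  refine RingHom.ext fun p => ?_
  rw [RingHom.comp_apply, dsc_apply]
  simp only [inr_apply, ss_bb k g χ hg0]
  rw [← Finset.sum_mul, Fin.sum_univ_eq_sum_range (fun i => E g (ζ : k) (cst b) w i) g,
    sum_E hζ hg, one_mul]

theorem dsc_inl (hg : (g : k) ≠ 0) (hζ : IsPrimitiveRoot (ζ : k) g)
    (hχ : χ (1 / g) = Additive.ofMul ζ)
    {S : Type v} [CommRing S] (a : AddMonoidAlgebra k ℤ →+* S) (b : AddMonoidAlgebra k ℚ →+* S)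
    (hab : a.comp (rm k (AddMonoidHom.mulLeft (g : ℤ))) = b.comp (rm k (Int.castAddHom ℚ)))
    (w : S) (hw : w ^ g = 1)
    (hwd : w = a (AddMonoidAlgebra.single 1 1) * b (AddMonoidAlgebra.single (-(g : ℚ)⁻¹) 1)) :
    (dsc hg hζ χ b w hw).comp (inl k g) = a := by
  have hg0 : 0 < g := Nat.pos_of_ne_zero (by rintro rfl; simp at hg)
  have hζ0 : (ζ : k) ≠ 0 := ζ.ne_zero
  have hc : ∀ r, a (AddMonoidAlgebra.single 0 r) = b (AddMonoidAlgebra.single 0 r) := by
    intro r
    have h1 := RingHom.congr_fun hab (AddMonoidAlgebra.single 0 r)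
    rwa [RingHom.comp_apply, RingHom.comp_apply, rm_single, rm_single, map_zero, map_zero] at h1
  -- compare constants and the characters
  have h0 : ∀ r, (dsc hg hζ χ b w hw).comp (inl k g) (AddMonoidAlgebra.single 0 r) =
      a (AddMonoidAlgebra.single 0 r) := by
    intro r
    have e : inl k g (AddMonoidAlgebra.single 0 r) = inr k g χ (AddMonoidAlgebra.single 0 r) := by
      funext i
      rw [inl_apply, inr_apply, rm_single, bb_single, map_zero, map_zero, mul_zero, toMul_zero,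
        Units.val_one, one_pow, mul_one]
    rw [RingHom.comp_apply, e, ← RingHom.comp_apply, dsc_inr, hc]
  have h1 : (dsc hg hζ χ b w hw).comp (inl k g) (AddMonoidAlgebra.single 1 1) =
      a (AddMonoidAlgebra.single 1 1) := by
    rw [RingHom.comp_apply, dsc_apply]
    have key : ∀ i : Fin g, E g (ζ : k) (cst b) w i *
        b (ss k g χ i (inl k g (AddMonoidAlgebra.single 1 1) i)) =
        E g (ζ : k) (cst b) w i * (w * b (AddMonoidAlgebra.single ((g : ℚ)⁻¹) 1)) := by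
      intro i
      rw [inl_apply, rm_single]
      have e1 : (Int.castAddHom ℚ) 1 = 1 := by simp
      rw [e1, ss_one hχ]
      have e2 : (AddMonoidAlgebra.single ((g : ℚ)⁻¹) (((ζ : k) ^ (i : ℕ))⁻¹) : AddMonoidAlgebra k ℚ) =
          AddMonoidAlgebra.single 0 (((ζ : k) ^ (i : ℕ))⁻¹) * AddMonoidAlgebra.single ((g : ℚ)⁻¹) 1 := by
        rw [AddMonoidAlgebra.single_mul_single, zero_add, mul_one]
      rw [e2, map_mul, ← cst_apply, ← mul_assoc, ← mul_assoc]
      congr 1
      have e3 := mul_E hζ (cst b) hw i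
      calc E g (ζ : k) (cst b) w i * cst b (((ζ : k) ^ (i : ℕ))⁻¹)
          = (cst b ((ζ : k) ^ (i : ℕ)) * w * E g (ζ : k) (cst b) w i) *
              cst b (((ζ : k) ^ (i : ℕ))⁻¹) := by rw [e3]
        _ = (cst b ((ζ : k) ^ (i : ℕ)) * cst b (((ζ : k) ^ (i : ℕ))⁻¹)) *
              (E g (ζ : k) (cst b) w i * w) := by ring
        _ = E g (ζ : k) (cst b) w i * w := by
            rw [← map_mul, mul_inv_cancel₀ (pow_ne_zero _ hζ0), map_one, one_mul]
    rw [Finset.sum_congr rfl (fun i _ => key i), ← Finset.sum_mul,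
      Fin.sum_univ_eq_sum_range (fun i => E g (ζ : k) (cst b) w i) g, sum_E hζ hg, one_mul, hwd,
      mul_assoc, ← map_mul, AddMonoidAlgebra.single_mul_single, neg_add_cancel, mul_one]
    change a _ * b 1 = _
    rw [map_one, mul_one]
  have h2 : chr ((dsc hg hζ χ b w hw).comp (inl k g)) = chr a := MonoidHom.ext_mint h1
  apply hom_ext'
  · exact h0
  · intro m
    exact DFunLike.congr_fun h2 (Multiplicative.ofAdd m)

theorem E_pi (hg : (g : k) ≠ 0) (hζ : IsPrimitiveRoot (ζ : k) g)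
    (hχ : χ (1 / g) = Additive.ofMul ζ) (i : Fin g) :
    E g (ζ : k) (cst (inr k g χ)) (inl k g (AddMonoidAlgebra.single 1 1) *
      inr k g χ (AddMonoidAlgebra.single (-(g : ℚ)⁻¹) 1)) i = Pi.single i 1 := by
  have hg0 : 0 < g := Nat.pos_of_ne_zero (by rintro rfl; simp at hg)
  have hgQ : (g : ℚ) ≠ 0 := by positivity
  have hζ0 : (ζ : k) ≠ 0 := ζ.ne_zero
  funext l
  have h1 : (Pi.evalRingHom (fun _ : Fin g => AddMonoidAlgebra k ℚ) l).comp (cst (inr k g χ)) =
      algebraMap k (AddMonoidAlgebra k ℚ) := by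
    refine RingHom.ext fun r => ?_
    change bb k g χ l (AddMonoidAlgebra.single 0 r) = AddMonoidAlgebra.single 0 r
    rw [bb_single, map_zero, mul_zero, toMul_zero, Units.val_one, one_pow, mul_one]
  have h2 : (inl k g (AddMonoidAlgebra.single 1 1) *
      inr k g χ (AddMonoidAlgebra.single (-(g : ℚ)⁻¹) 1)) l =
      algebraMap k (AddMonoidAlgebra k ℚ) (((ζ : k) ^ (l : ℕ))⁻¹) := by
    rw [Pi.mul_apply, inl_apply, inr_apply, rm_single, bb_single, AddMonoidAlgebra.single_mul_single]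
    have e1 : (Int.castAddHom ℚ) 1 + (g : ℚ) * -(g : ℚ)⁻¹ = 0 := by
      simp [hgQ]
    have e2 : χ (-(g : ℚ)⁻¹) = -Additive.ofMul ζ := by
      rw [map_neg, ← hχ, one_div]
    rw [e1, e2, one_mul, one_mul]
    change AddMonoidAlgebra.single 0 _ = AddMonoidAlgebra.single 0 (((ζ : k) ^ (l : ℕ))⁻¹)
    rw [toMul_neg, toMul_ofMul, Units.val_inv_eq_inv_val, inv_pow]
  have h3 := map_E g (ζ : k) (cst (inr k g χ)) (inl k g (AddMonoidAlgebra.single 1 1) *
      inr k g χ (AddMonoidAlgebra.single (-(g : ℚ)⁻¹) 1)) i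
      (Pi.evalRingHom (fun _ : Fin g => AddMonoidAlgebra k ℚ) l)
  rw [h1, Pi.evalRingHom_apply, Pi.evalRingHom_apply, h2] at h3
  rw [h3]
  have h4 := map_E g (ζ : k) (RingHom.id k) (((ζ : k) ^ (l : ℕ))⁻¹) i
    (algebraMap k (AddMonoidAlgebra k ℚ))
  rw [RingHom.comp_id] at h4
  rw [← h4]
  have h5 : E g (ζ : k) (RingHom.id k) (((ζ : k) ^ (l : ℕ))⁻¹) i = if i = l then 1 else 0 := by
    rw [E]
    simp only [RingHom.id_apply]
    split_ifs with h
    · subst h
      rw [mul_inv_cancel₀ (pow_ne_zero _ hζ0)]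
      simp [inv_mul_cancel₀ hg]
    · rw [sum_pow_eq_zero, mul_zero]
      · rw [mul_pow, inv_pow, ← pow_mul, ← pow_mul, mul_comm (i : ℕ), mul_comm (l : ℕ), pow_mul,
          pow_mul, hζ.pow_eq_one, one_pow, one_pow, inv_one, mul_one]
      · intro h'
        apply h
        rw [mul_inv_eq_one₀ (pow_ne_zero _ hζ0)] at h'
        exact Fin.ext (hζ.pow_inj i.2 l.2 h')
  rw [h5]
  split_ifs with h
  · subst h
    rw [map_one, Pi.single_eq_same]
  · rw [map_zero, Pi.single_eq_of_ne (fun h' => h h'.symm)]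

theorem dsc_uniq (hg : (g : k) ≠ 0) (hζ : IsPrimitiveRoot (ζ : k) g)
    (hχ : χ (1 / g) = Additive.ofMul ζ)
    {S : Type v} [CommRing S] (a : AddMonoidAlgebra k ℤ →+* S) (b : AddMonoidAlgebra k ℚ →+* S)
    (w : S) (hw : w ^ g = 1)
    (hwd : w = a (AddMonoidAlgebra.single 1 1) * b (AddMonoidAlgebra.single (-(g : ℚ)⁻¹) 1))
    (m : (Fin g → AddMonoidAlgebra k ℚ) →+* S) (hm1 : m.comp (inl k g) = a)
    (hm2 : m.comp (inr k g χ) = b) : m = dsc hg hζ χ b w hw := by
  have hg0 : 0 < g := Nat.pos_of_ne_zero (by rintro rfl; simp at hg)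
  have h1 : ∀ i : Fin g, m (Pi.single i 1) = E g (ζ : k) (cst b) w i := by
    intro i
    rw [← E_pi hg hζ hχ i, map_E, map_mul]
    have e1 : m (inl k g (AddMonoidAlgebra.single 1 1)) = a (AddMonoidAlgebra.single 1 1) :=
      RingHom.congr_fun hm1 _
    have e2 : m (inr k g χ (AddMonoidAlgebra.single (-(g : ℚ)⁻¹) 1)) =
        b (AddMonoidAlgebra.single (-(g : ℚ)⁻¹) 1) := RingHom.congr_fun hm2 _
    rw [e1, e2, ← hwd]
    congr 1
    rw [← hm2]
    rfl
  refine RingHom.ext fun p => ?_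
  have h2 : p = ∑ i : Fin g, Pi.single i 1 * inr k g χ (ss k g χ i (p i)) := by
    funext l
    rw [Finset.sum_apply, Finset.sum_eq_single l]
    · rw [Pi.mul_apply, Pi.single_eq_same, one_mul, inr_apply, bb_ss k g χ hg0]
    · intro i _ hi
      rw [Pi.mul_apply, Pi.single_eq_of_ne hi.symm, zero_mul]
    · intro h
      exact absurd (Finset.mem_univ l) h
  conv_lhs => rw [h2]
  rw [map_sum, dsc_apply]
  refine Finset.sum_congr rfl fun i _ => ?_
  rw [map_mul, h1]
  congr 1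
  exact RingHom.congr_fun hm2 _

/-- The pushout square. -/
theorem isPushout_mul (hg : (g : k) ≠ 0) (hζ : IsPrimitiveRoot (ζ : k) g)
    (hχ : χ (1 / g) = Additive.ofMul ζ) :
    IsPushout (CommRingCat.ofHom (rm k (AddMonoidHom.mulLeft (g : ℤ))))
      (CommRingCat.ofHom (rm k (Int.castAddHom ℚ)))
      (CommRingCat.ofHom (inl k g)) (CommRingCat.ofHom (inr k g χ)) := by
  have hg0 : 0 < g := Nat.pos_of_ne_zero (by rintro rfl; simp at hg)
  have hζ1 : ζ ^ g = 1 := Units.ext (by simpa using hζ.pow_eq_one)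
  have w := comm_sq k (χ := χ) hg0 hζ1 hχ
  have w' : CommRingCat.ofHom (rm k (AddMonoidHom.mulLeft (g : ℤ))) ≫ CommRingCat.ofHom (inl k g) =
      CommRingCat.ofHom (rm k (Int.castAddHom ℚ)) ≫ CommRingCat.ofHom (inr k g χ) := by
    rw [← CommRingCat.ofHom_comp, ← CommRingCat.ofHom_comp, w]
  refine ⟨⟨w'⟩, ⟨PushoutCocone.IsColimit.mk w' ?_ ?_ ?_ ?_⟩⟩
  · intro s
    exact CommRingCat.ofHom (dsc hg hζ χ s.inr.hom _
      (pow_eq_one hg0 s.inl.hom s.inr.hom (congrArg CommRingCat.Hom.hom s.condition)))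
  all_goals
    intro s
    have hs : s.inl.hom.comp (rm k (AddMonoidHom.mulLeft (g : ℤ))) =
      s.inr.hom.comp (rm k (Int.castAddHom ℚ)) := congrArg CommRingCat.Hom.hom s.condition
  · apply CommRingCat.hom_ext
    exact dsc_inl hg hζ hχ s.inl.hom s.inr.hom hs _ (pow_eq_one hg0 s.inl.hom s.inr.hom hs) rfl
  · apply CommRingCat.hom_ext
    exact dsc_inr hg hζ s.inr.hom _ (pow_eq_one hg0 s.inl.hom s.inr.hom hs)
  · intro m hm1 hm2
    apply CommRingCat.hom_ext
    exact dsc_uniq hg hζ hχ s.inl.hom s.inr.hom _ (pow_eq_one hg0 s.inl.hom s.inr.hom hs) rfl m.hom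
      (congrArg CommRingCat.Hom.hom hm1) (congrArg CommRingCat.Hom.hom hm2)

end Pushout

end Groth.Agent.Sga7.H77.MuSplit
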